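import Mathlib
import Cfsg.Agent.Lib.Elusive.MonomialBasis
import Cfsg.Agent.Lib.SingerNorm.Order

/-!
Normal forms by `2 × 2` blocks for operators whose square is a scalar.
Owner: helper86.
-/

namespace Cfsg.Agent.Lib.ExtInvolution

open Matrix Module

variable {F V : Type*} [Field F] [AddCommGroup V] [Module F V] [FiniteDimensional F V]

/-- `f` is block diagonal in the basis `b`, each block being a scalar square root of `z` or the
companion block of `X ^ 2 - z`, and all blocks have determinant `lam`. -/
structure PairForm (f : Module.End F V) (z lam : F) (β : Type) [Fintype β] [DecidableEq β]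
    (b : Basis (Fin 2 × β) F V) (B : β → Matrix (Fin 2) (Fin 2) F) : Prop where
  eq : f = Matrix.toLin b b (Matrix.blockDiagonal B)
  blocks : ∀ i, (∃ e : F, e * e = z ∧ B i = e • 1) ∨ B i = !![0, z; 1, 0]
  det : ∀ i, (B i).det = lam

omit [FiniteDimensional F V] in
theorem toLin_blockDiagonal_apply {β : Type} [Fintype β] [DecidableEq β]
    (b : Basis (Fin 2 × β) F V) (B : β → Matrix (Fin 2) (Fin 2) F) (k : Fin 2) (i : β) :
    Matrix.toLin b b (Matrix.blockDiagonal B) (b (k, i)) =
      B i 0 k • b (0, i) + B i 1 k • b (1, i) := by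
  rw [Matrix.toLin_self, Fintype.sum_prod_type, Fin.sum_univ_two,
    Finset.sum_eq_single i, Finset.sum_eq_single i]
  · simp [Matrix.blockDiagonal_apply]
  · intro j _ hj; simp [Matrix.blockDiagonal_apply, hj]
  · simp
  · intro j _ hj; simp [Matrix.blockDiagonal_apply, hj]
  · simp

/-- A family of pairs spanning the space gives a normal form. -/
theorem pairForm_of_pairs {f : Module.End F V} {z lam : F} {β : Type} [Fintype β] [DecidableEq β]
    (g : Fin 2 × β → V) (hspan : ⊤ ≤ Submodule.span F (Set.range g))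
    (hcard : Fintype.card (Fin 2 × β) = finrank F V) (B : β → Matrix (Fin 2) (Fin 2) F)
    (hf : ∀ k i, f (g (k, i)) = B i 0 k • g (0, i) + B i 1 k • g (1, i))
    (hB : ∀ i, (∃ e : F, e * e = z ∧ B i = e • 1) ∨ B i = !![0, z; 1, 0])
    (hdet : ∀ i, (B i).det = lam) :
    ∃ b : Basis (Fin 2 × β) F V, PairForm f z lam β b B := by
  refine ⟨basisOfTopLeSpanOfCardEqFinrank g hspan hcard, ⟨?_, hB, hdet⟩⟩
  refine (basisOfTopLeSpanOfCardEqFinrank g hspan hcard).ext fun ⟨k, i⟩ => ?_
  rw [toLin_blockDiagonal_apply]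
  simp only [coe_basisOfTopLeSpanOfCardEqFinrank]
  exact hf k i

/-- Split case in odd characteristic. -/
theorem exists_pairForm_split {f : Module.End F V} {z c : F} (hc : c ≠ 0) (h2 : (2 : F) ≠ 0)
    (hcz : c * c = z) (hf : f * f = z • 1) (hev : Even (finrank F V))
    (hneg : Even (finrank F (End.eigenspace f (-c)))) :
    ∃ (β : Type) (_ : Fintype β) (_ : DecidableEq β) (b : Basis (Fin 2 × β) F V)
      (B : β → Matrix (Fin 2) (Fin 2) F),
      PairForm f z z β b B ∧ ∀ i, ∃ e : F, e * e = z ∧ B i = e • 1 := by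
  classical
  have hne : c ≠ -c := fun h => hc (by
    have h' : (2 : F) * c = 0 := by linear_combination h
    exact (mul_eq_zero.mp h').resolve_left h2)
  have hprod : (f - c • 1) * (f - (-c) • 1) = 0 := by
    refine LinearMap.ext fun v => ?_
    have hff : f (f v) = z • v := LinearMap.congr_fun hf v
    simp only [Module.End.mul_apply, LinearMap.sub_apply, LinearMap.smul_apply,
      Module.End.one_apply, LinearMap.zero_apply, map_sub, map_smul, hff, ← hcz]
    module
  have hIC := SingerNorm.isCompl_eigenspace f hne hprod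
  set P := End.eigenspace f c
  set M := End.eigenspace f (-c)
  have hsum := Submodule.finrank_add_eq_of_isCompl hIC
  obtain ⟨m2, hm2⟩ := hneg
  obtain ⟨m1, hm1⟩ : Even (finrank F P) := by
    rw [← hsum] at hev
    exact (Nat.even_add.mp hev).mpr ⟨m2, hm2⟩
  let bP : Basis (Fin 2 × Fin m1) F P :=
    (Module.finBasisOfFinrankEq F P (n := 2 * m1) (by omega)).reindex finProdFinEquiv.symm
  let bM : Basis (Fin 2 × Fin m2) F M :=
    (Module.finBasisOfFinrankEq F M (n := 2 * m2) (by omega)).reindex finProdFinEquiv.symm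
  let bb : Basis (Fin 2 × (Fin m1 ⊕ Fin m2)) F V :=
    ((bP.prod bM).map (Submodule.prodEquivOfIsCompl P M hIC)).reindex
      (Equiv.prodSumDistrib _ _ _).symm
  refine ⟨Fin m1 ⊕ Fin m2, inferInstance, inferInstance, bb,
    fun i => (Sum.elim (fun _ => c) (fun _ => -c) i) • 1, ⟨?_, fun i => Or.inl ⟨_, ?_, rfl⟩, ?_⟩,
    fun i => ⟨_, ?_, rfl⟩⟩
  · refine bb.ext fun ⟨k, i⟩ => ?_
    rw [toLin_blockDiagonal_apply]
    rcases i with i | i
    · have h : bb (k, Sum.inl i) = (bP (k, i) : V) := by simp [bb]
      rw [h, End.mem_eigenspace_iff.mp (bP (k, i)).2]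
      fin_cases k <;> simp [bb]
    · have h : bb (k, Sum.inr i) = (bM (k, i) : V) := by simp [bb]
      rw [h, End.mem_eigenspace_iff.mp (bM (k, i)).2]
      fin_cases k <;> simp [bb]
  · rcases i with i | i <;> simp [hcz]
  · intro i
    rcases i with i | i <;> simp [Matrix.det_fin_two, pow_two, ← hcz]
  · rcases i with i | i <;> simp [hcz]

/-- Non-split case, and the case of characteristic two. -/
theorem exists_pairForm_monomial {f : Module.End F V} {z : F} (hz : z ≠ 0) (hf : f * f = z • 1)
    (hev : Even (finrank F V)) (hcase : (∀ c : F, c * c ≠ z) ∨ (2 : F) = 0) :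
    ∃ (β : Type) (_ : Fintype β) (_ : DecidableEq β) (b : Basis (Fin 2 × β) F V)
      (B : β → Matrix (Fin 2) (Fin 2) F), PairForm f z (-z) β b B := by
  classical
  have hff : ∀ v, f (f v) = z • v := fun v => LinearMap.congr_fun hf v
  obtain ⟨ι, b, π, hπ, hfb⟩ := Elusive.MonomialBasis.exists_of_sq hz hf
  haveI : Fintype ι := FiniteDimensional.fintypeBasisIndex b
  choose e he hfe using hfb
  have hππ : ∀ j, π (π j) = j := fun j => by rw [← Equiv.Perm.mul_apply, hπ]; rfl
  have hfix : ∀ j, π j = j → e j * e j = z := by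
    intro j hj
    have h1 := hff (b j)
    rw [hfe, hj, map_smul, hfe, hj, smul_smul] at h1
    exact smul_left_injective F (b.ne_zero j) h1
  have heq : ∀ i j, π i = i → π j = j → e i = e j := by
    intro i j hi hj
    rcases hcase with h | h
    · exact absurd (hfix i hi) (h _)
    · have h1 : (e i - e j) * (e i - e j) = 0 := by
        linear_combination hfix i hi - hfix j hj + (e j * e j - e i * e j) * h
      exact sub_eq_zero.mp (mul_self_eq_zero.mp h1)
  -- representatives of the moved pairs
  let o := Fintype.equivFin ι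
  let R := {j : ι // o j < o (π j)}
  -- pairing of the fixed points
  obtain ⟨k, hk⟩ : Even (Nat.card {j // π j = j}) := by
    rw [Nat.even_iff, Elusive.MonomialBasis.card_mod_two π hπ, ← finrank_eq_card_basis b,
      ← Nat.even_iff]
    exact hev
  let eS : Fin 2 × Fin k ≃ {j // π j = j} :=
    (finProdFinEquiv.trans (Fintype.equivFinOfCardEq (by
      rw [← Nat.card_eq_fintype_card, hk]; omega)).symm)
  let g : Fin 2 × (R ⊕ Fin k) → V := fun x =>
    match x with
    | (l, Sum.inl j) => if l = 0 then b j.1 else f (b j.1)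
    | (l, Sum.inr i) => b (eS (l, i)).1
  let B : R ⊕ Fin k → Matrix (Fin 2) (Fin 2) F :=
    Sum.elim (fun _ => !![0, z; 1, 0]) (fun i => e (eS (0, i)).1 • 1)
  have hspan : ⊤ ≤ Submodule.span F (Set.range g) := by
    rw [← b.span_eq, Submodule.span_le]
    rintro _ ⟨j, rfl⟩
    rcases lt_trichotomy (o j) (o (π j)) with h | h | h
    · exact Submodule.subset_span ⟨(0, Sum.inl ⟨j, h⟩), rfl⟩
    · have hj : π j = j := (o.injective h).symm
      obtain ⟨⟨l, i⟩, hli⟩ := eS.surjective ⟨j, hj⟩
      refine Submodule.subset_span ⟨(l, Sum.inr i), ?_⟩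
      fin_cases l <;> simpa [g] using congrArg (fun s : {j // π j = j} => b s.1) hli
    · have h' : o (π j) < o (π (π j)) := by rw [hππ]; exact h
      have h1 : f (b (π j)) = e (π j) • b j := by rw [hfe, hππ]
      have h2 : b j = (e (π j))⁻¹ • f (b (π j)) := by rw [h1, inv_smul_smul₀ (he _)]
      show b j ∈ Submodule.span F (Set.range g)
      rw [h2]
      exact Submodule.smul_mem _ _ (Submodule.subset_span ⟨(1, Sum.inl ⟨π j, h'⟩), rfl⟩)
  have hcard : Fintype.card (Fin 2 × (R ⊕ Fin k)) = finrank F V := by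
    rw [finrank_eq_card_basis b]
    have hm : Fintype.card {j : ι // o (π j) < o j} = Fintype.card R :=
      Fintype.card_congr
        { toFun := fun j => ⟨π j.1, show o (π j.1) < o (π (π j.1)) by rw [hππ]; exact j.2⟩
          invFun := fun j => ⟨π j.1, show o (π (π j.1)) < o (π j.1) by rw [hππ]; exact j.2⟩
          left_inv := fun j => Subtype.ext (hππ _)
          right_inv := fun j => Subtype.ext (hππ _) }
    have hsplit : Finset.univ.filter (fun j => o j < o (π j)) ∪
        Finset.univ.filter (fun j => o (π j) < o j) ∪ Finset.univ.filter (fun j => π j = j) =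
        (Finset.univ : Finset ι) := by
      ext j
      simp only [Finset.mem_union, Finset.mem_filter, Finset.mem_univ, true_and, iff_true]
      rcases lt_trichotomy (o j) (o (π j)) with h | h | h
      · exact Or.inl (Or.inl h)
      · exact Or.inr (o.injective h).symm
      · exact Or.inl (Or.inr h)
    have hS : Fintype.card {j // π j = j} = k + k := by rw [← Nat.card_eq_fintype_card, hk]
    have hR : Fintype.card R = (Finset.univ.filter fun j => o j < o (π j)).card :=
      Fintype.card_subtype _
    have hu := congrArg Finset.card hsplit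
    rw [Finset.card_union_of_disjoint, Finset.card_union_of_disjoint, Finset.card_univ,
      ← Fintype.card_subtype, ← Fintype.card_subtype, ← Fintype.card_subtype, hm, hS] at hu
    · rw [Fintype.card_prod, Fintype.card_fin, Fintype.card_sum, Fintype.card_fin]
      change 2 * (Fintype.card {j // o j < o (π j)} + k) = _
      have : Fintype.card R = Fintype.card {j // o j < o (π j)} := rfl
      omega
    · rw [Finset.disjoint_left]
      intro j h1 h2
      simp only [Finset.mem_filter] at h1 h2
      exact lt_asymm h1.2 h2.2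
    · rw [Finset.disjoint_left]
      intro j h1 h2
      simp only [Finset.mem_union, Finset.mem_filter] at h1 h2
      rw [h2.2] at h1
      rcases h1 with h1 | h1 <;> exact lt_irrefl _ h1.2
  refine (pairForm_of_pairs (f := f) (z := z) (lam := -z) g hspan hcard B ?_ ?_ ?_).elim
    fun bb hbb => ⟨R ⊕ Fin k, inferInstance, inferInstance, bb, B, hbb⟩
  · rintro l (j | i)
    · fin_cases l
      · simp [g, B]
      · simp [g, B, hff]
    · have hs := fun l : Fin 2 => (eS (l, i)).2
      fin_cases l
      · simp [g, B]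
        rw [hfe, hs 0]
      · simp [g, B]
        rw [hfe, hs 1, heq _ _ (hs 1) (hs 0)]
  · rintro (j | i)
    · exact Or.inr rfl
    · exact Or.inl ⟨_, hfix _ (eS (0, i)).2, rfl⟩
  · rintro (j | i)
    · simp [B, Matrix.det_fin_two]
    · have h1 := hfix _ (eS (0, i)).2
      have h2 : z = -z := by
        rcases hcase with h | h
        · exact absurd h1 (h _)
        · linear_combination z * h
      rw [← h2]
      simp [B, pow_two, h1]

/-- The binary form `a² - z b²` represents every element of a finite field. -/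
theorem exists_norm_eq [Fintype F] {z : F} (hz : z ≠ 0) (d : F) :
    ∃ a b : F, a ^ 2 - z * b ^ 2 = d := by
  by_cases h2 : ringChar F = 2
  · obtain ⟨a, ha⟩ := FiniteField.isSquare_of_char_two h2 d
    exact ⟨a, 0, by rw [ha]; ring⟩
  · obtain ⟨a, b, hab⟩ := FiniteField.exists_root_sum_quadratic
      (f := Polynomial.X ^ 2 - Polynomial.C d) (g := Polynomial.C (-z) * Polynomial.X ^ 2)
      (Polynomial.degree_X_pow_sub_C two_pos d)
      (Polynomial.degree_C_mul_X_pow 2 (neg_ne_zero.mpr hz))
      (FiniteField.odd_card_of_char_ne_two h2)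
    simp only [Polynomial.eval_sub, Polynomial.eval_pow, Polynomial.eval_X, Polynomial.eval_C,
      Polynomial.eval_mul] at hab
    exact ⟨a, b, by linear_combination hab⟩

/-- An operator commuting with a normal form can have any determinant. -/
theorem PairForm.exists_commute_det [Fintype F] {f : Module.End F V} {z lam : F} {β : Type}
    [Fintype β] [DecidableEq β] {b : Basis (Fin 2 × β) F V} {B : β → Matrix (Fin 2) (Fin 2) F}
    (hP : PairForm f z lam β b B) (hz : z ≠ 0) (i₀ : β) (d : F) :
    ∃ h : Module.End F V, h * f = f * h ∧ LinearMap.det h = d := by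
  obtain ⟨M, hM, hdet⟩ : ∃ M : Matrix (Fin 2) (Fin 2) F, M * B i₀ = B i₀ * M ∧ M.det = d := by
    rcases hP.blocks i₀ with ⟨e, -, he⟩ | he
    · exact ⟨!![d, 0; 0, 1], by rw [he]; simp, by simp [Matrix.det_fin_two]⟩
    · obtain ⟨a, c, hac⟩ := exists_norm_eq hz d
      refine ⟨!![a, z * c; c, a], ?_, ?_⟩
      · rw [he]
        ext i j
        fin_cases i <;> fin_cases j <;> simp [Matrix.mul_apply, Fin.sum_univ_two] <;> ring
      · rw [Matrix.det_fin_two, ← hac]; simp; ring
  let N : β → Matrix (Fin 2) (Fin 2) F := Function.update (fun _ => 1) i₀ M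
  refine ⟨Matrix.toLin b b (Matrix.blockDiagonal N), ?_, ?_⟩
  · rw [hP.eq, Module.End.mul_eq_comp, Module.End.mul_eq_comp, ← Matrix.toLin_mul,
      ← Matrix.toLin_mul, ← Matrix.blockDiagonal_mul, ← Matrix.blockDiagonal_mul]
    congr 2
    funext i
    by_cases hi : i = i₀
    · subst hi; simp [N, hM]
    · simp [N, hi]
  · rw [LinearMap.det_toLin, Matrix.det_blockDiagonal,
      Finset.prod_eq_single i₀ (fun i _ hi => by simp [N, hi]) (by simp)]
    simp [N, hdet]

/-- Two operators with the same blocks are conjugate in `SL`. -/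
theorem PairForm.exists_sl_conj [Fintype F] {n : ℕ} (hn : 0 < n)
    {x : Matrix (Fin n) (Fin n) F} {z lam : F} {β : Type} [Fintype β] [DecidableEq β]
    {b : Basis (Fin 2 × β) F (Fin n → F)} {B : β → Matrix (Fin 2) (Fin 2) F}
    (hP : PairForm (Matrix.toLin' x) z lam β b B) (hz : z ≠ 0)
    (w : Basis (Fin 2 × β) F (Fin n → F)) :
    ∃ P : Matrix.SpecialLinearGroup (Fin n) F,
      x * (P : Matrix (Fin n) (Fin n) F) = (P : Matrix (Fin n) (Fin n) F) *
        LinearMap.toMatrix' (Matrix.toLin w w (Matrix.blockDiagonal B)) := by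
  classical
  have hβ : Nonempty β := by
    by_contra h
    rw [not_nonempty_iff] at h
    have h1 := finrank_eq_card_basis b
    rw [Module.finrank_fin_fun] at h1
    have h2 : Fintype.card (Fin 2 × β) = 0 := Fintype.card_eq_zero
    omega
  obtain ⟨i₀⟩ := hβ
  set y := Matrix.toLin w w (Matrix.blockDiagonal B)
  let g : (Fin n → F) ≃ₗ[F] (Fin n → F) := w.equiv b (Equiv.refl _)
  have hg : ∀ v, Matrix.toLin' x (g v) = g (y v) := by
    have h : (Matrix.toLin' x).comp (g : (Fin n → F) →ₗ[F] (Fin n → F)) =
        (g : (Fin n → F) →ₗ[F] (Fin n → F)).comp y := by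
      refine w.ext fun ⟨k, i⟩ => ?_
      simp only [LinearMap.comp_apply, LinearEquiv.coe_coe, y, toLin_blockDiagonal_apply, map_add,
        map_smul, g, Basis.equiv_apply, Equiv.refl_apply]
      rw [hP.eq, toLin_blockDiagonal_apply]
    exact fun v => LinearMap.congr_fun h v
  have hgdet : LinearMap.det (g : (Fin n → F) →ₗ[F] (Fin n → F)) ≠ 0 :=
    (LinearEquiv.isUnit_det' g).ne_zero
  obtain ⟨h, hh, hd⟩ := hP.exists_commute_det hz i₀
    (LinearMap.det (g : (Fin n → F) →ₗ[F] (Fin n → F)))⁻¹
  refine ⟨⟨LinearMap.toMatrix' (h * (g : (Fin n → F) →ₗ[F] (Fin n → F))), ?_⟩, ?_⟩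
  · rw [LinearMap.det_toMatrix', map_mul, hd, inv_mul_cancel₀ hgdet]
  · show x * LinearMap.toMatrix' (h * (g : (Fin n → F) →ₗ[F] (Fin n → F))) = _
    apply Matrix.toLin'.injective
    rw [Matrix.toLin'_mul, Matrix.toLin'_mul, Matrix.toLin'_toMatrix', Matrix.toLin'_toMatrix']
    refine LinearMap.ext fun v => ?_
    show Matrix.toLin' x (h (g v)) = h (g (y v))
    rw [← hg]
    exact (LinearMap.congr_fun hh (g v)).symm

/-- An involution modulo scalars of determinant one admits a normal form, unless it is split with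
an odd number of eigenvalues of each kind. -/
theorem exists_pairForm {f : Module.End F V} {z : F} (hz : z ≠ 0) (hf : f * f = z • 1)
    (hev : Even (finrank F V)) (hdet : LinearMap.det f = 1)
    (hc : (2 : F) ≠ 0 → ∀ c : F, c ^ finrank F V ≠ -1) :
    ∃ (lam : F) (β : Type) (_ : Fintype β) (_ : DecidableEq β) (b : Basis (Fin 2 × β) F V)
      (B : β → Matrix (Fin 2) (Fin 2) F), PairForm f z lam β b B ∧
      (((∀ c : F, c * c ≠ z) ∨ (2 : F) = 0) ∨ ∀ i, ∃ e : F, e * e = z ∧ B i = e • 1) := by
  by_cases h : (∀ c : F, c * c ≠ z) ∨ (2 : F) = 0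
  · obtain ⟨β, h1, h2, b, B, hb⟩ := exists_pairForm_monomial hz hf hev h
    exact ⟨_, β, h1, h2, b, B, hb, Or.inl h⟩
  push Not at h
  obtain ⟨⟨c, hcz⟩, h2⟩ := h
  have hc0 : c ≠ 0 := fun h0 => hz (by rw [← hcz, h0, mul_zero])
  have hne : c ≠ -c := fun h => hc0 (by
    have h' : (2 : F) * c = 0 := by linear_combination h
    exact (mul_eq_zero.mp h').resolve_left h2)
  have hneg : Even (finrank F (End.eigenspace f (-c))) := by
    by_contra hodd
    rw [Nat.not_even_iff_odd] at hodd
    have hprod : (f - c • 1) * (f - (-c) • 1) = 0 := by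
      refine LinearMap.ext fun v => ?_
      have hff : f (f v) = z • v := LinearMap.congr_fun hf v
      simp only [Module.End.mul_apply, LinearMap.sub_apply, LinearMap.smul_apply,
        Module.End.one_apply, LinearMap.zero_apply, map_sub, map_smul, hff, ← hcz]
      module
    have h3 := SingerNorm.det_eq_of_two_eigen f hne hprod
    have hsum := Submodule.finrank_add_eq_of_isCompl (SingerNorm.isCompl_eigenspace f hne hprod)
    rw [hdet, neg_pow, hodd.neg_one_pow, neg_one_mul, mul_neg, ← pow_add, hsum] at h3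
    exact hc h2 c (by linear_combination h3)
  obtain ⟨β, h1, h1', b, B, hb, hbs⟩ := exists_pairForm_split hc0 h2 hcz hf hev hneg
  exact ⟨_, β, h1, h1', b, B, hb, Or.inr hbs⟩

end Cfsg.Agent.Lib.ExtInvolution
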