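import Cfsg.Prelude.Def_GeometricClasses
import Cfsg.Agent.Lib.ExtInvolution.NormalForm
import Cfsg.Agent.Lib.ElusiveTwo.Basic
import Cfsg.Agent.Lib.FieldSub.Basic

/-!
Involutions and normalisers of quadratic field subalgebras.
Owner: helper86.
-/

namespace Cfsg.Agent.Lib.ExtInvolution

open Matrix Module

variable {F : Type*} [Field F] [Fintype F] {n : ℕ} {K : Subalgebra F (Matrix (Fin n) (Fin n) F)}

omit [Fintype F] in
theorem exists_nonscalar_mem (hK : Cfsg.Geo.IsFieldSubalgebra 2 K) :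
    ∃ j ∈ K, ∀ c : F, j ≠ c • (1 : Matrix (Fin n) (Fin n) F) := by
  by_contra h
  push Not at h
  have : (⊤ : Submodule F K) ≤ Submodule.span F {(1 : K)} := fun k _ => by
    obtain ⟨c, hc⟩ := h k k.2
    exact Submodule.mem_span_singleton.mpr ⟨c, Subtype.ext hc.symm⟩
  have h1 := Submodule.finrank_mono this
  rw [finrank_top, hK.finrank_eq] at h1
  have h2 : finrank F (Submodule.span F ({(1 : K)} : Set K)) ≤ 1 :=
    (finrank_span_le_card ({(1 : K)} : Set K)).trans (by simp)
  omega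

omit [Fintype F] in
theorem eq_combo (hK : Cfsg.Geo.IsFieldSubalgebra 2 K) {j : Matrix (Fin n) (Fin n) F} (hj : j ∈ K)
    (hjs : ∀ c : F, j ≠ c • 1) {k : Matrix (Fin n) (Fin n) F} (hk : k ∈ K) :
    ∃ c d : F, k = c • 1 + d • j := by
  have hone : (1 : K) ≠ 0 := by
    intro h
    have : (1 : Matrix (Fin n) (Fin n) F) = 0 := congrArg Subtype.val h
    exact hjs 0 (by rw [zero_smul, ← mul_one j, this, mul_zero])
  have hli : LinearIndependent F ![(1 : K), ⟨j, hj⟩] := by
    rw [LinearIndependent.pair_iff' hone]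
    exact fun a ha => hjs a (congrArg Subtype.val ha).symm
  let bF := basisOfLinearIndependentOfCardEqFinrank hli (by rw [hK.finrank_eq, Fintype.card_fin])
  refine ⟨bF.repr ⟨k, hk⟩ 0, bF.repr ⟨k, hk⟩ 1, ?_⟩
  have hb0 : bF 0 = (1 : K) := by simp [bF]
  have hb1 : bF 1 = (⟨j, hj⟩ : K) := by simp [bF]
  have := congrArg Subtype.val (bF.sum_repr ⟨k, hk⟩)
  rw [Fin.sum_univ_two, hb0, hb1] at this
  simpa using this.symm

/-- The normaliser contains every invertible matrix commuting with a non-scalar element. -/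
theorem mem_normalizer_of_commute (hK : Cfsg.Geo.IsFieldSubalgebra 2 K)
    {j : Matrix (Fin n) (Fin n) F} (hj : j ∈ K) (hjs : ∀ c : F, j ≠ c • 1) (g : GL (Fin n) F)
    (hg : (g : Matrix (Fin n) (Fin n) F) * j = j * (g : Matrix (Fin n) (Fin n) F)) :
    g ∈ Cfsg.Geo.subalgebraNormalizer K := by
  have hall : ∀ k ∈ K, (g : Matrix (Fin n) (Fin n) F) * k = k * (g : Matrix (Fin n) (Fin n) F) := by
    intro k hk
    obtain ⟨c, d, rfl⟩ := eq_combo hK hj hjs hk
    simp [Matrix.mul_add, Matrix.add_mul, hg]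
  intro k
  refine ⟨fun hk => ?_, fun hk => ?_⟩
  · rw [hall k hk, Units.mul_inv_cancel_right]; exact hk
  · have h1 := hall _ hk
    rw [Units.inv_mul_cancel_right] at h1
    rwa [(Units.mul_right_inj g).1 h1] at hk

/-- No non-scalar element with a hyperplane of `μ`-eigenvectors normalises a quadratic field. -/
theorem not_normalize_of_rank_one (hK : Cfsg.Geo.IsFieldSubalgebra 2 K) (hn : 3 ≤ n)
    (g : GL (Fin n) F) (hg : g ∈ Cfsg.Geo.subalgebraNormalizer K) {μ : F} {u : Fin n → F}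
    (hrk : ∀ v, ∃ a : F, (g : Matrix (Fin n) (Fin n) F) *ᵥ v - μ • v = a • u) :
    (g : Matrix (Fin n) (Fin n) F) = μ • 1 := by
  by_contra hns
  set N : (Fin n → F) →ₗ[F] (Fin n → F) :=
    Matrix.toLin' (g : Matrix (Fin n) (Fin n) F) - μ • LinearMap.id with hN
  have hNa : ∀ v, N v = (g : Matrix (Fin n) (Fin n) F) *ᵥ v - μ • v := fun v => by simp [hN]
  have hker : n - 1 ≤ finrank F (LinearMap.ker N) := by
    have h1 := LinearMap.finrank_range_add_finrank_ker N
    rw [Module.finrank_fin_fun] at h1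
    have h2 : finrank F (LinearMap.range N) ≤ 1 := by
      refine (Submodule.finrank_mono (t := Submodule.span F {u}) ?_).trans
        ((finrank_span_le_card ({u} : Set (Fin n → F))).trans (by simp))
      rintro _ ⟨v, rfl⟩
      obtain ⟨a, ha⟩ := hrk v
      exact Submodule.mem_span_singleton.mpr ⟨a, by rw [hNa, ha]⟩
    omega
  have hμ : μ ≠ 0 := by
    rintro rfl
    obtain ⟨w, hw, hw0⟩ := Submodule.exists_mem_ne_zero_of_ne_bot
      (p := LinearMap.ker N) (fun h => by rw [h, finrank_bot] at hker; omega)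
    rw [LinearMap.mem_ker, hNa, zero_smul, sub_zero] at hw
    apply hw0
    have h1 : ((g⁻¹ : GL (Fin n) F) : Matrix (Fin n) (Fin n) F) *ᵥ
        ((g : Matrix (Fin n) (Fin n) F) *ᵥ w) = 0 := by rw [hw, Matrix.mulVec_zero]
    rwa [Matrix.mulVec_mulVec, ← Units.val_mul, inv_mul_cancel, Units.val_one, Matrix.one_mulVec]
      at h1
  have hcomm : ∀ k ∈ K, (g : Matrix (Fin n) (Fin n) F) * k = k * (g : Matrix (Fin n) (Fin n) F) := by
    intro k hk
    set k' := (g : Matrix (Fin n) (Fin n) F) * k * ((g⁻¹ : GL (Fin n) F) : Matrix (Fin n) (Fin n) F)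
      with hk'
    have hk'K : k' ∈ K := (hg k).mp hk
    have hgk : (g : Matrix (Fin n) (Fin n) F) * k = k' * (g : Matrix (Fin n) (Fin n) F) := by
      rw [hk', Units.inv_mul_cancel_right]
    -- a common fixed vector
    have hrange : finrank F (LinearMap.range
        (N.comp (Matrix.toLin' k) : (Fin n → F) →ₗ[F] (Fin n → F))) ≤ 1 := by
      refine (Submodule.finrank_mono (t := Submodule.span F {u}) ?_).trans
        ((finrank_span_le_card ({u} : Set (Fin n → F))).trans (by simp))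
      rintro _ ⟨v, rfl⟩
      obtain ⟨a, ha⟩ := hrk (k *ᵥ v)
      exact Submodule.mem_span_singleton.mpr ⟨a, by
        rw [LinearMap.comp_apply, Matrix.toLin'_apply, hNa, ha]⟩
    have h1 := LinearMap.finrank_range_add_finrank_ker
      (N.comp (Matrix.toLin' k) : (Fin n → F) →ₗ[F] (Fin n → F))
    rw [Module.finrank_fin_fun] at h1
    have h2 := Submodule.finrank_sup_add_finrank_inf_eq (LinearMap.ker N)
      (LinearMap.ker (N.comp (Matrix.toLin' k) : (Fin n → F) →ₗ[F] (Fin n → F)))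
    have h3 := Submodule.finrank_le (LinearMap.ker N ⊔
      LinearMap.ker (N.comp (Matrix.toLin' k) : (Fin n → F) →ₗ[F] (Fin n → F)))
    rw [Module.finrank_fin_fun] at h3
    obtain ⟨w, ⟨hw1, hw2⟩, hw0⟩ := Submodule.exists_mem_ne_zero_of_ne_bot
      (p := LinearMap.ker N ⊓
        LinearMap.ker (N.comp (Matrix.toLin' k) : (Fin n → F) →ₗ[F] (Fin n → F)))
      (fun h => by rw [h, finrank_bot] at h2; omega)
    rw [SetLike.mem_coe, LinearMap.mem_ker, hNa, sub_eq_zero] at hw1
    rw [SetLike.mem_coe, LinearMap.mem_ker, LinearMap.comp_apply, Matrix.toLin'_apply, hNa,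
      sub_eq_zero] at hw2
    have h4 : (k' - k) *ᵥ w = 0 := by
      have h5 : μ • (k' *ᵥ w) = μ • (k *ᵥ w) := by
        rw [← hw2, ← Matrix.mulVec_smul, ← hw1, Matrix.mulVec_mulVec, Matrix.mulVec_mulVec, hgk]
      rw [Matrix.sub_mulVec, smul_right_injective _ hμ h5, sub_self]
    rw [hgk, sub_eq_zero.mp (FieldSub.mulVec_eq_zero hK (K.sub_mem hk'K hk) hw0 h4)]
  obtain ⟨v, hv⟩ : ∃ v, N v ≠ 0 := by
    by_contra hcon
    push Not at hcon
    apply hns
    refine Matrix.toLin'.injective ?_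
    rw [map_smul, Matrix.toLin'_one, ← sub_eq_zero]
    exact LinearMap.ext hcon
  obtain ⟨j, hj, hjs⟩ := exists_nonscalar_mem hK
  obtain ⟨a, ha⟩ := hrk v
  obtain ⟨t, ht⟩ := hrk (j *ᵥ v)
  have hau : N v = a • u := by rw [hNa, ha]
  have ha0 : a ≠ 0 := fun h => hv (by rw [hau, h, zero_smul])
  have hu : u ≠ 0 := fun h => hv (by rw [hau, h, smul_zero])
  have h6 : a • (j *ᵥ u) = t • u := by
    rw [← Matrix.mulVec_smul, ← ha, Matrix.mulVec_sub, Matrix.mulVec_smul, Matrix.mulVec_mulVec,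
      ← hcomm j hj, ← Matrix.mulVec_mulVec, ht]
  have h7 : (j - (a⁻¹ * t) • (1 : Matrix (Fin n) (Fin n) F)) *ᵥ u = 0 := by
    rw [Matrix.sub_mulVec, Matrix.smul_mulVec, Matrix.one_mulVec, mul_smul, ← h6,
      inv_smul_smul₀ ha0, sub_self]
  exact hjs _ (sub_eq_zero.mp (FieldSub.mulVec_eq_zero hK
    (K.sub_mem hj (K.smul_mem K.one_mem _)) hu h7))

/-- The normal forms occur inside the normaliser. -/
theorem exists_mem_of_pairForm (hK : Cfsg.Geo.IsFieldSubalgebra 2 K) (hn : 0 < n)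
    {x : Matrix (Fin n) (Fin n) F} (hxdet : x.det = 1) {z lam : F} {β : Type} [Fintype β]
    [DecidableEq β] {b : Basis (Fin 2 × β) F (Fin n → F)} {B : β → Matrix (Fin 2) (Fin 2) F}
    (hP : PairForm (Matrix.toLin' x) z lam β b B) (hz : z ≠ 0)
    {j : Matrix (Fin n) (Fin n) F} (hj : j ∈ K) (hjs : ∀ c : F, j ≠ c • 1)
    (hjB : (∀ i, ∃ e : F, e * e = z ∧ B i = e • 1) ∨ j * j = z • 1) :
    ∃ P : Matrix.SpecialLinearGroup (Fin n) F, ∀ xs : Matrix.SpecialLinearGroup (Fin n) F,
      (xs : Matrix (Fin n) (Fin n) F) = x →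
      P⁻¹ * xs * P ∈ (Cfsg.Geo.subalgebraNormalizer K).comap
        (Matrix.SpecialLinearGroup.toGL : Matrix.SpecialLinearGroup (Fin n) F →* GL (Fin n) F) := by
  classical
  haveI : Nontrivial (Matrix (Fin n) (Fin n) F) := FieldSub.nontrivial_mat hn
  letI : Field K := IsField.toField (R := K) ⟨⟨0, 1, zero_ne_one⟩,
    fun a c => Subtype.ext (hK.comm a a.2 c c.2), fun {a} ha => by
      obtain ⟨y, hy, hay⟩ := hK.inv a a.2 (fun h => ha (Subtype.ext h))
      exact ⟨⟨y, hy⟩, Subtype.ext hay⟩⟩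
  letI hmod : Module K (Fin n → F) :=
    Module.compHom _ (((Matrix.toLinAlgEquiv' : Matrix (Fin n) (Fin n) F ≃ₐ[F]
      ((Fin n → F) →ₗ[F] (Fin n → F))).toAlgHom.comp K.val).toRingHom)
  have hsmul : ∀ (k : K) (x : Fin n → F), k • x = (k : Matrix (Fin n) (Fin n) F) *ᵥ x :=
    fun k x => rfl
  haveI : @IsScalarTower F K (Fin n → F) Algebra.toSMul hmod.toSMul inferInstance :=
    ⟨fun a k x => Matrix.smul_mulVec a (k : Matrix (Fin n) (Fin n) F) x⟩
  haveI : FiniteDimensional K (Fin n → F) := Module.Finite.of_finite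
  have hli : LinearIndependent F ![(1 : K), ⟨j, hj⟩] := by
    rw [LinearIndependent.pair_iff' one_ne_zero]
    exact fun a ha => hjs a (congrArg Subtype.val ha).symm
  let bF := basisOfLinearIndependentOfCardEqFinrank hli (by rw [hK.finrank_eq, Fintype.card_fin])
  let bK := Module.finBasis K (Fin n → F)
  have hcard : Fintype.card (Fin (finrank K (Fin n → F))) = Fintype.card β := by
    have h1 := finrank_eq_card_basis b
    have h2 := Module.finrank_mul_finrank F K (Fin n → F)
    rw [hK.finrank_eq, Module.finrank_fin_fun] at h2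
    rw [Module.finrank_fin_fun, Fintype.card_prod, Fintype.card_fin] at h1
    rw [Fintype.card_fin]
    omega
  let vK : Basis β K (Fin n → F) := bK.reindex (Fintype.equivOfCardEq hcard)
  let w : Basis (Fin 2 × β) F (Fin n → F) := bF.smulTower vK
  have hw : ∀ k i, w (k, i) = (bF k : Matrix (Fin n) (Fin n) F) *ᵥ vK i := fun k i =>
    (Basis.smulTower_apply bF vK (k, i)).trans (hsmul _ _)
  obtain ⟨P, hPx⟩ := hP.exists_sl_conj hn hz w
  set y := Matrix.toLin w w (Matrix.blockDiagonal B) with hy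
  -- each block is multiplication by an element of `K`
  have hblock : ∀ i, ∃ c : K, ∀ k : K, y ((k : Matrix (Fin n) (Fin n) F) *ᵥ vK i) =
      ((c * k : K) : Matrix (Fin n) (Fin n) F) *ᵥ vK i := by
    intro i
    have key : ∀ c : K, (∀ l : Fin 2, y (w (l, i)) = ((c * bF l : K) : Matrix (Fin n) (Fin n) F) *ᵥ vK i) →
        ∀ k : K, y ((k : Matrix (Fin n) (Fin n) F) *ᵥ vK i) =
          ((c * k : K) : Matrix (Fin n) (Fin n) F) *ᵥ vK i := by
      intro c hc
      let L : K →ₗ[F] (Fin n → F) := (LinearMap.toSpanSingleton K (Fin n → F) (vK i)).restrictScalars F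
      have hL : y.comp L = L.comp (LinearMap.mulLeft F c) := by
        refine bF.ext fun l => ?_
        show y (bF l • vK i) = (c * bF l) • vK i
        rw [hsmul, ← hw, hc l, hsmul]
      exact fun k => LinearMap.congr_fun hL k
    have hscal : ∀ e : F, B i = e • 1 → ∃ c : K, ∀ k : K, y ((k : Matrix (Fin n) (Fin n) F) *ᵥ vK i) =
        ((c * k : K) : Matrix (Fin n) (Fin n) F) *ᵥ vK i := by
      intro e he
      refine ⟨algebraMap F K e, key _ fun l => ?_⟩
      rw [hy, toLin_blockDiagonal_apply, he, hw 0, hw 1]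
      fin_cases l <;> simp [Algebra.algebraMap_eq_smul_one, Matrix.smul_mulVec, Matrix.one_apply]
    rcases hjB with h | h
    · obtain ⟨e, -, he⟩ := h i
      exact hscal e he
    · rcases hP.blocks i with ⟨e, -, he⟩ | he
      · exact hscal e he
      · refine ⟨⟨j, hj⟩, key _ fun l => ?_⟩
        rw [hy, toLin_blockDiagonal_apply, he, hw 0, hw 1]
        fin_cases l
        · simp [bF]
        · simp [bF, h, Matrix.smul_mulVec]
  choose c hc using hblock
  set Y := LinearMap.toMatrix' y with hY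
  have hYj : Y * j = j * Y := by
    apply Matrix.toLin'.injective
    rw [Matrix.toLin'_mul, Matrix.toLin'_mul, hY, Matrix.toLin'_toMatrix']
    refine w.ext fun ⟨l, i⟩ => ?_
    rw [LinearMap.comp_apply, LinearMap.comp_apply, Matrix.toLin'_apply, Matrix.toLin'_apply, hw,
      Matrix.mulVec_mulVec, hc i (bF l), Matrix.mulVec_mulVec,
      show j * (bF l : Matrix (Fin n) (Fin n) F) = ((⟨j, hj⟩ * bF l : K) : Matrix (Fin n) (Fin n) F) from rfl,
      hc i, show j * ((c i * bF l : K) : Matrix (Fin n) (Fin n) F) =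
        ((⟨j, hj⟩ * (c i * bF l) : K) : Matrix (Fin n) (Fin n) F) from rfl, mul_left_comm]
  refine ⟨P, fun xs hxs => ?_⟩
  have hval : ((P⁻¹ * xs * P : Matrix.SpecialLinearGroup (Fin n) F) : Matrix (Fin n) (Fin n) F) = Y := by
    rw [Matrix.SpecialLinearGroup.coe_mul, Matrix.SpecialLinearGroup.coe_mul, hxs,
      Matrix.mul_assoc, hPx, ← Matrix.mul_assoc, ← Matrix.SpecialLinearGroup.coe_mul,
      inv_mul_cancel, Matrix.SpecialLinearGroup.coe_one, Matrix.one_mul]
  refine mem_normalizer_of_commute hK hj hjs _ ?_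
  show ((P⁻¹ * xs * P : Matrix.SpecialLinearGroup (Fin n) F) : Matrix (Fin n) (Fin n) F) * j = _
  rw [hval, hYj, ← hval]
  rfl

end Cfsg.Agent.Lib.ExtInvolution
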