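import Mathlib
import Cfsg.Prelude.Def_GeometricClasses
import Cfsg.Agent.Lib.ExtInvolution.NormalForm
import Cfsg.Agent.Lib.Symplectic.Order

/-!
Normal forms of involutions inside symplectic similarity groups.
Owner: helper86.
-/

namespace Cfsg.Agent.Lib.ExtInvolution

open Matrix Module

variable {F : Type*} [Field F] [Fintype F] {n : ℕ}

theorem exists_pow_eq_neg_one_iff (hn : 0 < n) (h2 : (2 : F) ≠ 0) :
    (∃ c : F, c ^ n = -1) ↔ ¬ padicValNat 2 (Fintype.card F - 1) ≤ padicValNat 2 n := by
  classical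
  have hq1 : 1 < Fintype.card F := Fintype.one_lt_card
  constructor
  · rintro ⟨c, hc⟩ hle
    have hc0 : c ≠ 0 := fun h => by
      rw [h, zero_pow (by omega : n ≠ 0)] at hc
      exact one_ne_zero (neg_eq_zero.mp hc.symm)
    have hd : 2 ^ padicValNat 2 (Fintype.card F - 1) ∣ n :=
      (pow_dvd_pow 2 hle).trans pow_padicValNat_dvd
    obtain ⟨t, ht⟩ := pow_padicValNat_dvd (p := 2) (n := Fintype.card F - 1)
    obtain ⟨s, hs⟩ := hd
    have hto : Odd t := by
      rcases Nat.even_or_odd t with ⟨r, hr⟩ | h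
      · exfalso
        refine pow_succ_padicValNat_not_dvd (p := 2) (n := Fintype.card F - 1) (by omega) ⟨r, ?_⟩
        calc Fintype.card F - 1 = 2 ^ padicValNat 2 (Fintype.card F - 1) * t := ht
          _ = _ := by rw [hr, pow_succ]; ring
      · exact h
    have h1 : (c ^ n) ^ t = 1 := by
      rw [hs, ← pow_mul, mul_right_comm, ← ht, pow_mul, FiniteField.pow_card_sub_one_eq_one c hc0,
        one_pow]
    rw [hc, hto.neg_one_pow] at h1
    exact h2 (by linear_combination -h1)
  · intro hlt
    rw [not_le] at hlt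
    obtain ⟨g, hg⟩ := IsCyclic.exists_generator (α := Fˣ)
    have hord : orderOf g = Fintype.card F - 1 := by
      rw [orderOf_eq_card_of_forall_mem_zpowers hg, Nat.card_eq_fintype_card, Fintype.card_units]
    set v := padicValNat 2 n
    have hdvd : 2 ^ (v + 1) ∣ Fintype.card F - 1 :=
      (pow_dvd_pow 2 hlt).trans pow_padicValNat_dvd
    set c := g ^ ((Fintype.card F - 1) / 2 ^ (v + 1))
    have hc : orderOf c = 2 ^ (v + 1) := by
      rw [orderOf_pow' (n := (Fintype.card F - 1) / 2 ^ (v + 1)) _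
        (Nat.div_pos (Nat.le_of_dvd (by omega) hdvd) (by positivity)).ne', hord,
        Nat.gcd_eq_right (Nat.div_dvd_of_dvd hdvd), Nat.div_div_self hdvd (by omega)]
    refine ⟨(c : F), ?_⟩
    obtain ⟨s, hs⟩ := pow_padicValNat_dvd (p := 2) (n := n)
    have hso : Odd s := by
      rcases Nat.even_or_odd s with ⟨r, hr⟩ | h
      · exfalso
        refine pow_succ_padicValNat_not_dvd (p := 2) (n := n) (by omega) ⟨r, ?_⟩
        calc n = 2 ^ padicValNat 2 n * s := hs
          _ = _ := by rw [hr, pow_succ]; ring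
      · exact h
    have hw : ((c : F) ^ 2 ^ v) = -1 := by
      have h1 : ((c : F) ^ 2 ^ v) ^ 2 = 1 := by
        rw [← pow_mul, ← pow_succ, ← hc, ← Units.val_pow_eq_pow_val, pow_orderOf_eq_one,
          Units.val_one]
      rcases sq_eq_one_iff.mp h1 with h | h
      · exfalso
        have h' : c ^ 2 ^ v = 1 := Units.ext (by rw [Units.val_pow_eq_pow_val, h, Units.val_one])
        have := orderOf_dvd_of_pow_eq_one h'
        rw [hc] at this
        exact (Nat.pow_dvd_pow_iff_le_right (by norm_num)).mp this |>.not_gt (Nat.lt_succ_self v)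
      · exact h
    rw [hs, pow_mul, hw, hso.neg_one_pow]

omit [Fintype F] in
/-- Bundle a bilinear two-argument map. -/
theorem exists_bundle {f : (Fin n → F) → (Fin n → F) → F} (hf : Cfsg.Geo.IsSymplecticForm f) :
    ∃ Bf : (Fin n → F) →ₗ[F] (Fin n → F) →ₗ[F] F, Symplectic.IsSympForm Bf ∧ ∀ u v, Bf u v = f u v := by
  refine ⟨LinearMap.mk₂ F f hf.bilinear.add_left hf.bilinear.smul_left hf.bilinear.add_right
    hf.bilinear.smul_right, ⟨fun u => hf.alternating u, fun u hu => ?_⟩, fun u v => rfl⟩
  by_contra h0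
  obtain ⟨-, x, hx⟩ := hf.nondegenerate u h0
  exact hx (hu x)

omit [Fintype F] in
/-- A block diagonal map in a hyperbolic basis is a similitude. -/
theorem similitude_of_blocks {Bf : (Fin n → F) →ₗ[F] (Fin n → F) →ₗ[F] F} {β : Type} [Fintype β]
    [DecidableEq β] {w : Basis (Fin 2 × β) F (Fin n → F)}
    (hw : ∀ k l i j, Bf (w (k, i)) (w (l, j)) = if i = j then !![(0 : F), 1; -1, 0] k l else 0)
    {B : β → Matrix (Fin 2) (Fin 2) F} {lam : F} (hdet : ∀ i, (B i).det = lam) (u v : Fin n → F) :
    Bf (Matrix.toLin w w (Matrix.blockDiagonal B) u) (Matrix.toLin w w (Matrix.blockDiagonal B) v) =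
      lam * Bf u v := by
  set y := Matrix.toLin w w (Matrix.blockDiagonal B)
  have h : Bf.compl₁₂ y y = lam • Bf := by
    refine w.ext fun ⟨k, i⟩ => w.ext fun ⟨l, j⟩ => ?_
    rw [LinearMap.compl₁₂_apply, LinearMap.smul_apply, LinearMap.smul_apply, smul_eq_mul]
    simp only [y, toLin_blockDiagonal_apply, map_add, map_smul, LinearMap.add_apply,
      LinearMap.smul_apply, smul_eq_mul, hw]
    by_cases hij : i = j
    · subst hij
      rw [← hdet i, Matrix.det_fin_two]
      fin_cases k <;> fin_cases l <;> simp <;> ring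
    · simp [hij]
  exact LinearMap.congr_fun (LinearMap.congr_fun h u) v

omit [Fintype F] in
/-- A symplectic space has a hyperbolic basis indexed by any type of half the dimension. -/
theorem exists_hyperbolic_basis {Bf : (Fin n → F) →ₗ[F] (Fin n → F) →ₗ[F] F}
    (hB : Symplectic.IsSympForm Bf) {β : Type} [Fintype β] [DecidableEq β]
    (hβ : 2 * Fintype.card β = n) :
    ∃ w : Basis (Fin 2 × β) F (Fin n → F), ∀ k l i j,
      Bf (w (k, i)) (w (l, j)) = if i = j then !![(0 : F), 1; -1, 0] k l else 0 := by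
  classical
  obtain ⟨m, hm, e, he⟩ := Symplectic.exists_std hB
  rw [Module.finrank_fin_fun] at hm
  let E : β ≃ Fin m := Fintype.equivFinOfCardEq (by omega)
  let σ : Fin 2 × β ≃ Fin m ⊕ Fin m :=
    { toFun := fun x => if x.1 = 0 then Sum.inr (E x.2) else Sum.inl (E x.2)
      invFun := Sum.elim (fun i => (1, E.symm i)) (fun i => (0, E.symm i))
      left_inv := fun ⟨k, i⟩ => by fin_cases k <;> simp
      right_inv := fun x => by rcases x with x | x <;> simp }
  refine ⟨((Pi.basisFun F (Fin m ⊕ Fin m)).reindex σ.symm).map e, fun k l i j => ?_⟩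
  simp only [Basis.map_apply, Basis.reindex_apply, Equiv.symm_symm, Pi.basisFun_apply, he,
    Symplectic.stdForm_apply]
  have hs : ∀ x, σ x = if x.1 = 0 then Sum.inr (E x.2) else Sum.inl (E x.2) := fun _ => rfl
  by_cases hij : i = j
  · subst hij
    fin_cases k <;> fin_cases l <;> simp [hs, Pi.single_apply]
  · have hne : E i ≠ E j := fun h => hij (E.injective h)
    fin_cases k <;> fin_cases l <;> simp [hs, Pi.single_apply, hij, hne, hne.symm]

end Cfsg.Agent.Lib.ExtInvolution
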